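/- Relators (generated). -/
import Mathlib.Data.Nat.Notation
set_option maxRecDepth 100000
namespace CL.LyU
/-- relators -/
def RA0 : List (List ℕ) := [[9,9,9], [9,0,10,0], [9,1,10,1], [9,2,10,2], [9,3,10,3], [9,8,10,8], [7,3,0,3], [6,1,0,1], [5,3,6,3], [4,6,7,6,7], [11,11,4], [11,9,12,9], [11,0,12,0,5,7,6], [11,1,12,3,2,7,2,3,6], [11,2,12,6,7,2,7,6], [11,3,12,1,2,5,6,2,1], [11,8,12,2,8,2,7]]
/-- program -/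
def pRA0 : List (ℕ × ℕ) := [(6, 7), (3, 8), (5, 8), (12, 12), (13, 4), (0, 15), (15, 7), (0, 17), (17, 10), (0, 19), (19, 13), (0, 21), (21, 20), (0, 23), (21, 17), (0, 15), (22, 17), (0, 17), (23, 15), (23, 18), (0, 19), (32, 32), (33, 31), (0, 35), (35, 24), (0, 37), (0, 26), (0, 32), (0, 35), (40, 30), (0, 42), (0, 34), (0, 30), (0, 35), (0, 31), (46, 37), (0, 48), (0, 36), (0, 36), (50, 42), (0, 52), (0, 42), (0, 44), (0, 48), (0, 50), (0, 47), (57, 54), (0, 59), (0, 50), (0, 57), (0, 48)]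
/-- equations -/
def eRA0 : List (ℕ × ℕ) := [(47, 61), (45, 51), (43, 52), (41, 53), (39, 54), (37, 59), (35, 54), (33, 52), (32, 54), (30, 99999), (29, 55), (27, 61), (22, 57), (16, 99999), (12, 57), (5, 52), (0, 99999)]
/-- relators -/
def RA1 : List (List ℕ) := [[4,6,7,0,2,1,0,3,2,0,4,0,2,3,0,1,2,0,7,6], [4,0,2,1,0,3,2,6,7,0,4,0,7,6,2,3,0,1,2,0], [4,7,2,6,7,2,1,3,4,3,1,2,7,6,2,7], [4,1,3,2,6,7,2,6,4,6,2,7,6,2,3,1], [4,7,2,3,0,1,2,6,4,6,2,1,0,3,2,7], [4,6,2,3,0,1,2,7,4,7,2,1,0,3,2,6], [6,7,0,2,1,0,3,2,0,6,7,0,2,1,0,3,2,0,6,7,0,2,1,0,3,2,0], [0,2,1,0,3,2,6,7,2,1,0,3,2,6,7,2,1,0,3,2,6,7,0], [7,2,6,7,2,1,3,7,2,6,7,2,1,3,7,2,6,7,2,1,3], [1,3,2,6,7,2,6,1,3,2,6,7,2,6,1,3,2,6,7,2,6], [7,2,3,0,1,2,6,4,7,2,3,0,1,2,6,4,7,2,3,0,1,2,6,4], [6,2,3,0,1,2,7,6,2,3,0,1,2,7,6,2,3,0,1,2,7], [6,7,0,2,1,0,3,1,0,3,2,6,7,0,6,7,0,2,1,0,3,1,0,3,2,6,7,0,4],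 [6,7,0,2,1,0,3,2,0,7,2,6,7,2,1,3,6,7,0,2,1,0,3,2,0,7,2,6,7,2,1,3,4], [0,2,1,0,3,2,6,7,0,7,2,6,7,2,1,3,0,2,1,0,3,2,6,7,0,7,2,6,7,2,1,3,4], [6,7,0,2,1,0,3,2,0,1,3,2,6,7,2,7,0,2,1,0,3,2,0,1,3,2,6,7,2,6,4], [0,2,1,0,3,2,6,7,0,1,3,2,6,7,2,6,0,2,1,0,3,2,6,7,0,1,3,2,6,7,2,6,4], [7,2,6,7,2,1,3,1,3,2,6,7,2,6,7,2,6,7,2,1,3,1,3,2,6,7,2,6,4], [6,7,0,2,1,0,3,2,0,7,2,3,0,1,2,6,4,6,7,0,2,1,0,3,2,0,7,2,3,0,1,2,6], [0,2,1,0,3,2,6,7,0,7,2,3,0,1,2,6,4,0,2,1,0,3,2,6,7,0,7,2,3,0,1,2,6], [7,2,6,7,2,1,3,7,2,3,0,1,2,6,4,7,2,6,7,2,1,3,7,2,3,0,1,2,6], [1,3,2,6,7,2,6,7,2,3,0,1,2,6,4,1,3,2,6,7,2,6,7,2,3,0,1,2,6], [6,7,0,2,1,0,3,2,0,6,2,3,0,1,2,7,6,7,0,2,1,0,3,2,0,6,2,3,0,1,2,7,4], [0,2,1,0,3,2,6,7,0,6,2,3,0,1,2,7,0,2,1,0,3,2,6,7,0,6,2,3,0,1,2,7,4], [7,2,6,7,2,1,3,6,2,3,0,1,6,7,2,1,3,6,2,3,0,1,2,7,4], [1,3,2,6,7,3,0,1,2,7,1,3,2,6,7,3,0,1,2,7,4],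 [7,2,3,0,1,2,6,4,6,2,3,0,1,3,0,1,2,6,4,6,2,3,0,1,2,7,4]]
/-- program -/
def pRA1 : List (ℕ × ℕ) := [(2, 6), (0, 8), (4, 3), (3, 4), (6, 7), (2, 5), (0, 9), (2, 3), (8, 1), (11, 16), (9, 14), (17, 3), (18, 19), (0, 4), (0, 16), (6, 13), (14, 13), (0, 20), (21, 16), (11, 8), (8, 10), (28, 3), (7, 22), (7, 23), (31, 4), (26, 6), (5, 30), (1, 26), (3, 32), (25, 10), (8, 34), (5, 29), (36, 32), (35, 33), (24, 40), (9, 24), (13, 12), (22, 7), (22, 8), (7, 19), (44, 17), (0, 8), (0, 34), (0, 9), (0, 51), (49, 21), (0, 13), (0, 54), (0, 36), (0, 15), (54, 19), (0, 54), (0, 53), (0, 18), (0, 44), (59, 19), (0, 62), (0, 22), (0, 53), (63, 30), (0, 64), (0, 67), (0, 55), (0, 53), (68, 37), (0, 72), (0, 59), (0, 66), (45, 45), (0, 46), (46, 46), (0, 47), (50, 50), (0, 51), (46, 46), (0, 47), (51, 51), (0, 52), (57,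 57), (0, 58), (43, 43), (58, 59), (0, 59), (0, 52), (60, 62), (0, 61), (0, 55), (49, 86), (0, 50), (0, 78), (51, 89), (0, 52), (0, 81), (71, 61), (0, 76), (0, 59), (73, 71), (0, 74), (0, 69), (75, 74), (0, 76), (0, 72), (80, 77), (0, 81), (0, 75), (65, 65), (83, 85), (0, 84), (0, 81), (85, 88), (0, 86), (0, 84), (90, 91), (0, 91), (0, 87), (87, 94), (0, 88), (0, 90), (93, 97), (0, 94), (0, 93)]
/-- equations -/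
def eRA1 : List (ℕ × ℕ) := [(76, 127), (71, 99999), (66, 99999), (62, 122), (57, 99999), (53, 99999), (51, 99999), (49, 99999), (47, 99999), (45, 99999), (43, 99999), (41, 99999), (40, 125), (37, 99999), (34, 99999), (31, 99999), (28, 99999), (25, 99999), (22, 99999), (19, 99999), (16, 99999), (15, 125), (12, 99999), (9, 99999), (6, 99999), (3, 99999), (0, 99999)]
/-- relators -/
def RA2 : List (List ℕ) := [[0,7,2,1,0,3,2,6,3,1,2,7,6,2,7,4,6,2,1,0,3,2,7,0,2,3,0,1,2,0,7,6,7,2,1,0,3,2,6,0,7,6,2,3,0,1,2,0,6,2,7,6,2,3,1,0,2,3,0,1,2,0,7,6], [1,7,2,1,0,3,2,6,4,6,2,1,0,3,2,7,6,2,7,6,2,3,1,0,2,3,0,1,2,0,7,6,7,2,1,0,3,2,6,3,1,2,7,6,2,7,0,7,6,2,3,0,1,3,0,1,2,0,7,6], [2,7,2,1,0,3,2,6,3,1,2,7,6,2,7,4,6,2,1,0,3,2,7,6,2,7,6,2,3,1,7,2,1,0,3,2,6,3,1,2,7,6,2,7,0,7,6,2,3,0,1,3,0,1,2,0,7,6], [3,4,6,2,1,0,3,1,0,3,2,6,0,7,6,2,3,0,1,2,0,3,1,2,7,6,2,7,6,2,7,6,2,3,1,7,2,1,0,3,2,6,0,7,6,2,3,0,1,3,0,1,2,0,7,6]]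
/-- program -/
def pRA2 : List (ℕ × ℕ) := [(7, 6), (0, 3), (3, 4), (4, 3), (6, 0), (0, 8), (0, 8), (10, 7), (0, 5), (0, 9), (17, 3), (0, 17), (14, 2), (0, 12), (17, 11), (0, 13), (16, 14), (0, 7), (6, 2), (0, 26), (24, 26), (0, 14), (22, 8), (21, 26), (12, 6), (23, 1), (6, 4), (23, 13), (8, 10), (0, 6), (4, 31), (31, 4), (0, 39), (0, 10), (0, 9), (0, 41), (0, 38), (0, 13), (0, 10), (40, 27), (0, 18), (0, 15), (0, 14), (0, 13), (46, 17), (0, 14), (0, 16), (50, 25), (0, 55), (0, 24), (0, 34), (0, 20), (0, 27), (0, 30)]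
/-- equations -/
def eRA2 : List (ℕ × ℕ) := [(15, 99999), (10, 99999), (7, 99999), (0, 99999)]
/-- relators -/
def RA3 : List (List ℕ) := [[0,2,0,2,0,2], [1,2,1,2,1,2], [2,3,2,3,2,3], [0,1,0,1,0,1,0,1], [0,3,0,3,0,3,0,3], [1,3,1,3,1,3,1,3], [0,1,2,1,2,1,0,2,0,2], [0,1,0,1,3,0,3,1,3,0,1,3], [0,1,0,1,3,1,0,3,1,3,0,3], [0,1,0,3,1,3,0,1,0,3,1,3], [0,1,3,0,1,3,0,3,1,0,3,1], [0,1,3,0,1,3,1,0,1,3,0,3], [0,1,3,1,0,3,0,1,3,1,0,3], [0,1,3,2,1,3,0,3,1,2,3,1], [0,2,3,2,3,2,0,3,0,3,0,3], [1,2,3,2,3,2,1,3,1,3,1,3], [0,1,0,1,0,3,0,1,3,0,3,1,0,3], [0,1,0,1,0,3,2,1,3,0,3,1,2,3], [0,1,0,1,3,1,3,0,1,0,3,1,3,1], [0,1,0,2,3,1,0,1,2,3,2,0,1,3], [0,1,0,3,0,1,3,0,1,0,3,0,1,3], [0,1,0,3,0,3,0,1,0,3,1,0,1,3], [0,1,2,1,3,0,3,1,2,0,3,0,1,3], [0,1,2,3,1,0,1,3,2,1,0,3,0,3], [0,1,3,0,2,1,2,3,0,3,1,2,0,3], [0,1,3,0,2,3,1,0,1,3,2,0,3,1],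 [0,1,3,0,3,1,0,2,1,3,0,3,1,2], [0,1,3,1,3,0,3,0,3,1,3,1,0,3], [0,2,8,0,2,8,9], [0,8,0,8,0,8], [2,8,2,8,2,8], [3,8,3,8,3,8], [0,2,0,2,8,2,0,8,10], [0,2,3,8,3,8,3,0,2,8,9], [0,3,8,3,8,3,0,8,0,8], [2,3,8,3,8,3,2,8,2,8], [0,2,0,3,8,3,8,3,0,8,2,8,9], [0,2,3,0,3,2,0,8,3,0,3,8], [0,2,3,0,3,8,0,2,3,0,3,8,9], [0,3,2,8,2,3,0,3,2,8,2,3]]
/-- program -/
def pRA3 : List (ℕ × ℕ) := [(0, 3), (1, 2), (0, 5), (5, 6), (5, 7), (5, 7), (5, 7), (15, 10), (6, 7), (11, 17), (10, 6), (11, 19), (11, 11), (5, 5), (16, 15), (12, 16), (18, 11), (11, 25), (13, 13), (3, 18), (11, 15), (18, 14), (5, 15), (12, 22), (18, 18), (10, 10), (22, 22), (25, 25), (16, 16), (19, 19), (28, 27), (8, 27), (28, 34), (31, 24), (23, 35), (26, 32), (38, 35), (19, 46), (37, 24), (15, 47), (39, 30), (0, 37), (17, 36), (44, 17), (17, 40), (17, 17), (33,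 33), (28, 28), (46, 22), (0, 24), (19, 49), (0, 46), (0, 49), (51, 33), (0, 49), (0, 54), (35, 35), (54, 35), (0, 51), (56, 43), (0, 57), (0, 60), (42, 42), (60, 31), (53, 31), (0, 52), (0, 65), (68, 40), (0, 51), (0, 50), (36, 48), (0, 70), (38, 40), (42, 68), (0, 53), (73, 40), (0, 74), (0, 44), (0, 75), (43, 43), (71, 79), (0, 79), (0, 75), (0, 80), (82, 61), (0, 48), (0, 83), (85, 83), (0, 89), (0, 86), (0, 75), (0, 78), (89, 86), (0, 94), (0, 90), (0, 88), (0, 59), (94, 62), (0, 95), (0, 101), (0, 93), (79, 95), (0, 97), (0, 96), (101, 99), (0, 92), (0, 101), (0, 108), (0, 107), (91, 71), (81, 98), (81, 101), (115, 98), (107, 95), (0, 116), (0, 103), (105, 102), (0, 79), (79, 89), (115, 105), (0, 90), (115, 82), (0, 110), (0, 113), (100, 126), (0, 125), (0, 118), (0, 126), (88, 88), (87, 87)]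
/-- equations -/
def eRA3 : List (ℕ × ℕ) := [(87, 99999), (86, 132), (85, 99999), (84, 99999), (83, 99999), (82, 99999), (80, 99999), (77, 99999), (74, 99999), (73, 99999), (71, 99999), (68, 99999), (67, 99999), (66, 131), (63, 99999), (60, 99999), (58, 99999), (57, 99999), (55, 131), (51, 99999), (50, 99999), (46, 99999), (43, 99999), (38, 99999), (33, 99999), (29, 99999), (26, 132), (21, 99999), (20, 99999), (19, 99999), (18, 99999), (17, 138), (14, 139), (12, 99999), (11, 99999), (9, 99999), (6, 140), (2, 138), (1, 140), (0, 99999)]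
/-- relators -/
def RA4 : List (List ℕ) := [[0,3,2,8,2,3,0,3,8,2,8,3], [0,3,8,2,8,3,0,3,8,2,8,3], [2,3,8,2,3,8,2,3,8,2,3,8,10], [0,2,3,2,0,3,2,8,3,0,3,8,3], [0,2,3,2,0,3,2,8,3,0,8,3,8], [0,2,3,8,0,2,3,8,0,3,8,2,3,9], [0,3,2,3,0,3,2,8,3,0,3,8,3], [0,2,0,2,8,3,0,3,2,0,8,3,0,3,10], [0,2,0,2,8,3,0,3,8,0,2,3,0,3], [0,2,0,3,0,3,0,2,0,8,3,0,3,8], [0,2,0,3,0,3,2,8,2,3,0,3,0,8,10], [0,2,0,3,0,3,8,2,8,3,0,3,0,8,10], [0,2,3,0,2,3,2,3,0,8,3,0,3,8], [0,2,3,0,3,0,8,0,2,3,0,3,8,2,9], [0,2,3,0,3,2,0,3,8,3,8,0,3,8], [0,2,3,0,3,2,8,0,8,3,0,3,0,8], [0,2,3,0,3,8,0,2,3,0,8,3,8,3,9], [0,2,3,0,3,8,0,3,2,3,2,0,3,8,9], [0,2,3,2,3,8,2,3,0,3,2,8,2,3], [0,2,3,8,3,8,3,0,2,3,8,3,8,3,9], [0,2,8,0,3,8,2,3,8,2,3,8,2,3], [0,2,8,2,3,0,3,2,8,2,0,3,0,3], [0,3,2,8,2,3,0,3,8,2,3,8,3,8], [0,3,8,2,3,2,3,2,8,3,0,8,0,8], [2,3,2,3,8,3,2,8,3,2,8,3,2,8,9],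 [2,3,2,8,2,3,8,2,3,2,8,2,3,8,10], [0,1,8,1,0,1,8,1], [0,1,0,1,0,8,1,0,1,8], [0,1,2,1,2,1,8,0,2,8,9], [1,2,8,1,8,1,2,8,1,8,9], [0,1,0,1,0,8,0,1,0,1,0,8], [0,1,0,1,2,8,0,2,1,0,1,8,9], [0,1,2,1,2,1,0,2,8,2,0,8,10]]
/-- program -/
def pRA4 : List (ℕ × ℕ) := [(0, 3), (3, 4), (4, 10), (2, 11), (4, 2), (5, 13), (6, 7), (4, 10), (6, 16), (9, 11), (9, 7), (5, 14), (20, 15), (6, 6), (3, 12), (11, 7), (15, 10), (17, 14), (11, 26), (21, 20), (11, 11), (23, 20), (14, 18), (13, 22), (19, 20), (26, 6), (12, 20), (14, 14), (8, 8), (24, 7), (7, 33), (26, 39), (28, 30), (32, 31), (24, 34), (34, 37), (24, 32), (20, 47), (41, 46), (30, 37), (35, 12), (34, 12), (43, 39), (0, 44), (0, 52), (30, 29), (30, 30), (26, 26), (18, 17), (19, 41), (0, 38), (19, 19), (0, 19), (19, 52), (0, 23), (20, 47), (0, 20), (0, 45), (0, 57), (24,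 36), (0, 55), (0, 60), (38, 61), (0, 53), (0, 27), (41, 50), (0, 28), (43, 51), (0, 30), (64, 64), (0, 68), (0, 34), (67, 55), (0, 48), (0, 76), (70, 39), (0, 72), (0, 38), (0, 74), (74, 68), (0, 68), (0, 64), (57, 77), (0, 71), (0, 71), (60, 51), (0, 88), (0, 83), (83, 48), (0, 74), (49, 49), (73, 87), (0, 71), (0, 91), (76, 92), (0, 84), (0, 74), (0, 96), (83, 94), (0, 90), (0, 61), (68, 99), (0, 94), (0, 97), (0, 98), (103, 96), (0, 109), (0, 99), (0, 100), (0, 106), (108, 107), (0, 71), (0, 109), (0, 104), (95, 88), (88, 89), (74, 124), (0, 99), (73, 73), (92, 92), (106, 117), (0, 111), (0, 96), (81, 105), (0, 126), (0, 119)]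
/-- equations -/
def eRA4 : List (ℕ × ℕ) := [(80, 99999), (79, 99999), (78, 135), (77, 99999), (75, 134), (73, 136), (71, 99999), (67, 135), (64, 99999), (61, 99999), (59, 99999), (57, 99999), (54, 99999), (51, 136), (47, 99999), (44, 99999), (41, 136), (38, 136), (36, 99999), (35, 136), (32, 99999), (28, 99999), (25, 99999), (21, 99999), (16, 136), (12, 135), (11, 127), (10, 99999), (8, 136), (7, 136), (6, 99999), (3, 136), (0, 135)]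
/-- relators -/
def RA5 : List (List ℕ) := [[0,1,2,8,2,8,2,1,0,1,8,1], [0,1,8,1,0,2,8,1,8,1,2,8,9], [0,1,8,1,2,8,1,8,1,0,8,2], [1,2,1,2,8,1,8,2,1,8,1,8,10], [1,2,1,8,1,2,1,8,1,2,1,8], [1,2,1,8,1,2,1,8,2,1,2,8], [1,2,1,8,2,1,8,2,8,1,2,8], [1,2,8,1,2,8,1,2,8,1,2,8,9], [1,2,8,1,8,1,8,2,8,2,1,8,9], [1,2,8,2,1,2,8,2,1,8,2,8], [1,8,1,8,1,8,1,8,1,8,1,8], [0,1,0,1,2,8,2,0,2,0,1,0,1,8,9], [0,1,2,0,8,2,1,0,1,2,8,0,2,1], [0,1,2,1,2,1,8,0,1,2,1,2,1,8,9], [0,1,2,1,8,1,2,1,8,2,1,0,8,2,10], [0,1,2,1,8,1,8,2,1,8,0,1,8,1,10], [0,1,2,1,8,2,1,2,8,2,1,0,8,2,10], [0,1,2,8,1,2,1,8,2,1,0,2,0,8,9], [0,1,2,8,1,8,1,2,8,1,0,8,0,8,9], [0,1,2,8,2,1,2,8,2,1,0,2,0,8,9], [0,1,2,8,2,1,2,8,2,1,8,0,8,2,10], [0,1,8,1,0,2,1,8,1,2,1,8,1,2], [0,1,8,1,0,2,1,8,2,1,2,8,1,2], [0,1,8,1,0,2,8,1,8,2,1,2,1,8,9], [0,1,8,1,0,8,1,8,1,8,1,8,1,8], [0,1,8,1,2,0,8,0,2,1,8,1,2,8,10],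 [0,1,8,1,2,8,1,8,1,8,0,2,0,8,10], [0,1,8,1,8,2,0,1,8,2,1,2,1,8], [0,1,8,1,8,2,1,8,1,8,0,2,0,2,10]]
/-- program -/
def pRA5 : List (ℕ × ℕ) := [(1, 8), (2, 3), (0, 10), (1, 2), (5, 4), (5, 4), (8, 5), (6, 6), (5, 10), (9, 17), (4, 5), (13, 19), (12, 14), (21, 15), (10, 16), (15, 6), (13, 15), (12, 3), (18, 16), (9, 28), (17, 17), (13, 13), (17, 21), (12, 11), (0, 23), (18, 24), (22, 11), (20, 15), (25, 20), (19, 31), (11, 26), (13, 41), (27, 34), (0, 13), (23, 27), (37, 31), (30, 35), (21, 23), (0, 15), (14, 36), (34, 23), (0, 23), (40, 25), (0, 17), (40, 40), (0, 41), (19, 43), (43, 19), (0, 45), (28, 28), (21, 38), (0, 44), (43, 49), (0, 25), (32, 46), (55, 50), (0, 47), (0, 44), (0, 58), (0, 36), (41, 30), (0, 56), (0, 59), (0, 50), (33, 33), (65, 38), (0, 34), (67, 63), (0, 67), (0, 62), (0, 64), (0,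 72), (72, 57), (0, 64), (0, 42), (75, 72), (0, 61), (0, 43), (78, 61), (0, 76), (0, 75), (0, 89), (0, 62), (67, 74), (0, 50), (69, 82), (0, 79), (0, 57), (53, 84), (0, 87), (55, 92), (0, 88), (0, 90), (68, 57), (83, 102), (0, 73), (90, 94), (0, 87), (0, 98), (0, 92), (0, 97), (95, 72), (0, 89), (0, 93), (67, 106), (0, 99), (0, 70), (70, 81), (0, 95), (0, 96)]
/-- equations -/
def eRA5 : List (ℕ × ℕ) := [(71, 111), (70, 120), (68, 99999), (66, 119), (64, 99999), (63, 99999), (61, 99999), (60, 120), (58, 120), (56, 99999), (55, 99999), (50, 120), (46, 111), (45, 120), (43, 99999), (38, 119), (35, 99999), (32, 99999), (27, 99999), (25, 99999), (22, 119), (20, 99999), (17, 99999), (16, 120), (14, 99999), (9, 119), (6, 119), (3, 99999), (0, 119)]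
/-- relators -/
def RelsT : List (List ℕ) := [[6,7,0,2,1,0,3,2,0,13,0,6,7,2,1,0,3,2,0,13], [0,2,1,0,3,2,6,7,0,13,0,2,1,0,3,2,0,6,7,13], [7,2,6,7,2,1,3,13,7,2,6,7,2,1,3,13], [9,13,0,6,2,3,1,2,0,7,2,13], [2,7,0,2,1,3,2,6,0,13,10,13], [2,6,7,2,13,12,13], [11,13,2,7,6,2,13], [1,8,3,1,2,8,2,1,3,8,4,1,13,3,2,6,8,2,3,1,8,3,1,7,2,8,2,3,5,13], [2,3,1,2,1,3,2,13,2,3,1,2,1,3,2,13,2,3,1,2,1,3,2,13]]
/-- program -/
def pRelsT : List (ℕ × ℕ) := [(2, 1), (4, 3), (8, 9), (6, 4), (6, 0), (5, 4), (6, 4), (7, 20), (15, 10), (3, 2), (7, 9), (6, 10), (0, 10), (0, 26), (5, 3), (0, 18), (0, 29), (19, 24), (16, 24), (21, 32), (28, 16), (18, 11), (0, 14), (0, 23), (0, 13), (0, 18), (0, 18), (17, 24), (0, 20), (0, 19), (0, 30), (0, 28), (15, 15), (42, 46), (0, 34), (0, 41), (0, 31), (0, 39), (0, 38), (0, 30), (22, 34), (0, 22),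 (0, 34), (0, 53), (46, 41), (0, 25), (0, 58), (58, 60), (0, 30), (0, 55), (0, 30), (52, 30), (0, 54), (0, 61), (0, 53), (0, 58), (0, 64), (0, 61), (0, 59), (0, 72), (0, 41), (0, 69), (0, 57), (0, 42), (0, 55), (0, 73), (0, 68), (0, 70), (0, 73), (55, 55), (0, 56)]
/-- equations -/
def eRelsT : List (ℕ × ℕ) := [(44, 99999), (39, 84), (38, 99999), (31, 84), (27, 84), (24, 84), (20, 99999), (2, 84), (0, 99999)]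
/-- relators of `3·McL:2` -/
def RelsA : List (List ℕ) := RA0 ++ (RA1 ++ (RA2 ++ (RA3 ++ (RA4 ++ (RA5)))))
/-- Carmichael generators -/
def WY : List (List ℕ) := [[6,7,0,2,1,0,3,2,0], [0,2,1,0,3,2,6,7,0], [7,2,6,7,2,1,3], [1,3,2,6,7,2,6], [7,2,3,0,1,2,6,4], [6,2,3,0,1,2,7]]
end CL.LyU
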