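/-
The relators hold in the monomial model.
-/
import Cfsg.Agent.SPOR.LyU.Mon
import Cfsg.Agent.SPOR.LyU.MonD
import Cfsg.Agent.SPOR.LyU.Pres

set_option autoImplicit false
set_option Elab.async false
set_option maxRecDepth 100000

namespace CL.LyU

open CL.K CL.CE CL.Net

theorem lu0 : MR.letB isC mulC oneC cs [0,1,2,3,4,5,6,7,8,10,9,12,11] 0 = true := by
  decide +kernel
theorem lu1 : MR.letB isC mulC oneC cs [0,1,2,3,4,5,6,7,8,10,9,12,11] 1 = true := by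
  decide +kernel
theorem lu2 : MR.letB isC mulC oneC cs [0,1,2,3,4,5,6,7,8,10,9,12,11] 2 = true := by
  decide +kernel
theorem lu3 : MR.letB isC mulC oneC cs [0,1,2,3,4,5,6,7,8,10,9,12,11] 3 = true := by
  decide +kernel
theorem lu4 : MR.letB isC mulC oneC cs [0,1,2,3,4,5,6,7,8,10,9,12,11] 4 = true := by
  decide +kernel
theorem lu5 : MR.letB isC mulC oneC cs [0,1,2,3,4,5,6,7,8,10,9,12,11] 5 = true := by
  decide +kernel
theorem lu6 : MR.letB isC mulC oneC cs [0,1,2,3,4,5,6,7,8,10,9,12,11] 6 = true := by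
  decide +kernel
theorem lu7 : MR.letB isC mulC oneC cs [0,1,2,3,4,5,6,7,8,10,9,12,11] 7 = true := by
  decide +kernel
theorem lu8 : MR.letB isC mulC oneC cs [0,1,2,3,4,5,6,7,8,10,9,12,11] 8 = true := by
  decide +kernel
theorem lu9 : MR.letB isC mulC oneC cs [0,1,2,3,4,5,6,7,8,10,9,12,11] 9 = true := by
  decide +kernel
theorem lu10 : MR.letB isC mulC oneC cs [0,1,2,3,4,5,6,7,8,10,9,12,11] 10 = true := by
  decide +kernel
theorem lu11 : MR.letB isC mulC oneC cs [0,1,2,3,4,5,6,7,8,10,9,12,11] 11 = true := by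
  decide +kernel
theorem lu12 : MR.letB isC mulC oneC cs [0,1,2,3,4,5,6,7,8,10,9,12,11] 12 = true := by
  decide +kernel

theorem ltrsU : MR.Ltrs φU oneC cs iv :=
  MR.ltrs_of codeU units (L := 13) (by decide +kernel) (DCE.Below.of_lt (r := 13)
    ⟨⟨⟨⟨⟨⟨⟨⟨⟨⟨⟨⟨⟨trivial, lu0⟩, lu1⟩, lu2⟩, lu3⟩, lu4⟩, lu5⟩, lu6⟩, lu7⟩, lu8⟩, lu9⟩, lu10⟩, lu11⟩, lu12⟩)

/-- the letters -/
noncomputable abbrev gU : ℕ → Monˣ := MR.ltr φU oneC cs

theorem ru0 : ∀ r ∈ RA0, ev gU r = 1 :=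
  (ltrsU.of_run codeU (prog := pRA0) (es := eRA0) (ns := []) (by decide +kernel) (L := 13) (N := [])
    (by decide +kernel)).1
theorem ru1 : ∀ r ∈ RA1, ev gU r = 1 :=
  (ltrsU.of_run codeU (prog := pRA1) (es := eRA1) (ns := []) (by decide +kernel) (L := 13) (N := [])
    (by decide +kernel)).1
theorem ru2 : ∀ r ∈ RA2, ev gU r = 1 :=
  (ltrsU.of_run codeU (prog := pRA2) (es := eRA2) (ns := []) (by decide +kernel) (L := 13) (N := [])
    (by decide +kernel)).1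
theorem ru3 : ∀ r ∈ RA3, ev gU r = 1 :=
  (ltrsU.of_run codeU (prog := pRA3) (es := eRA3) (ns := []) (by decide +kernel) (L := 13) (N := [])
    (by decide +kernel)).1
theorem ru4 : ∀ r ∈ RA4, ev gU r = 1 :=
  (ltrsU.of_run codeU (prog := pRA4) (es := eRA4) (ns := []) (by decide +kernel) (L := 13) (N := [])
    (by decide +kernel)).1
theorem ru5 : ∀ r ∈ RA5, ev gU r = 1 :=
  (ltrsU.of_run codeU (prog := pRA5) (es := eRA5) (ns := []) (by decide +kernel) (L := 13) (N := [])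
    (by decide +kernel)).1

theorem presU : Pres gU iv RelsA :=
  ⟨ltrsU.inv, List.forall_mem_append.2 ⟨ru0, List.forall_mem_append.2 ⟨ru1, List.forall_mem_append.2 ⟨ru2, List.forall_mem_append.2 ⟨ru3, List.forall_mem_append.2 ⟨ru4, ru5⟩⟩⟩⟩⟩⟩

end CL.LyU
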