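/- Relators hold for the matrices (generated). -/
import Cfsg.Agent.SPOR.LyU.Mat
set_option autoImplicit false
set_option Elab.async false
set_option maxRecDepth 100000

namespace CL.LyU

open CL.K CL.CE CL.Net CL.Ly

/-- relators -/
def RB0 : List (List ℕ) := [[4,13,6,2,7,6,2,3,1,13,4,13,1,3,2,6,7,2,6,13], [4,13,4,6,2,1,0,3,2,7,13,4,13,7,2,3,0,1,2,6,4,13], [4,13,7,2,1,0,3,2,6,13,4,13,6,2,3,0,1,2,7,13], [13,6,2,7,6,2,3,1,6,2,7,6,2,3,1,6,2,7,6,2,3,1,13], [13,4,6,2,1,0,3,2,7,4,6,2,1,0,3,2,7,4,6,2,1,0,3,2,7,13], [13,7,2,1,0,3,2,6,7,2,1,0,3,2,6,7,2,1,0,3,2,6,13], [6,7,0,2,1,0,3,2,0,13,6,2,7,6,2,3,1,13,6,7,0,2,1,0,3,2,0,13,6,2,7,6,2,3,1,13,4], [0,2,1,0,3,2,6,7,0,13,6,2,7,6,2,3,1,13,0,2,1,0,3,2,6,7,0,13,6,2,7,6,2,3,1,13,4], [7,2,6,7,2,1,3,13,6,2,7,6,2,3,1,13,7,2,6,7,2,1,3,13,6,2,7,6,2,3,1,13,4],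 [1,3,2,6,7,2,6,13,6,2,7,6,2,3,1,13,1,3,2,6,7,2,6,13,6,2,7,6,2,3,1,13,4], [7,2,3,0,1,2,6,4,13,6,2,7,6,2,3,1,13,7,2,3,0,1,2,6,4,13,6,2,7,6,2,3,1,13,4], [6,2,3,0,1,2,7,13,6,2,7,6,2,3,1,13,6,2,3,0,1,2,7,13,6,2,7,6,2,3,1,13,4], [6,7,0,2,1,0,3,2,0,13,4,6,2,1,0,3,2,7,13,6,7,0,2,1,0,3,2,0,13,4,6,2,1,0,3,2,7,13,4], [0,2,1,0,3,2,6,7,0,13,4,6,2,1,0,3,2,7,13,0,2,1,0,3,2,6,7,0,13,4,6,2,1,0,3,2,7,13,4], [7,2,6,7,2,1,3,13,4,6,2,1,0,3,2,7,13,7,2,6,7,2,1,3,13,4,6,2,1,0,3,2,7,13,4], [1,3,2,6,7,2,6,13,4,6,2,1,0,3,2,7,13,1,3,2,6,7,2,6,13,4,6,2,1,0,3,2,7,13,4], [7,2,3,0,1,2,6,4,13,4,6,2,1,0,3,2,7,13,7,2,3,0,1,2,6,4,13,4,6,2,1,0,3,2,7,13,4], [6,2,3,0,1,2,7,13,4,6,2,1,0,3,2,7,13,6,2,3,0,1,2,7,13,4,6,2,1,0,3,2,7,13,4], [13,6,2,7,6,2,3,1,4,6,2,1,0,3,2,7,6,2,7,6,2,3,1,4,6,2,1,0,3,2,7,13,4]]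
theorem rb0 : ∀ r ∈ RB0, ev gL r = 1 :=
  (ltrsL.of_run codeM (prog := [(6, 2), (4, 3), (15, 6), (4, 3), (0, 2), (4, 8), (13, 8), (20, 6), (0, 15), (0, 3), (0, 11), (8, 10), (0, 7), (0, 20), (3, 27), (15, 16), (0, 18), (3, 30), (24, 11), (5, 16), (15, 26), (28, 21), (11, 19), (24, 21), (0, 5), (0, 31), (39, 19), (30, 10), (0, 34), (0, 33), (24, 13), (0, 38), (5, 11), (39, 11), (0, 36), (0, 30), (0, 36), (37, 39), (0, 17), (0, 17), (33, 21), (0, 42), (0, 45), (36, 13), (11, 57), (49, 22), (0, 59), (0, 21), (52, 28), (0, 22), (0, 20), (55, 18), (0, 49), (0, 66), (0, 22), (40, 40), (0, 41), (39, 39), (0, 40), (14, 14), (0, 15), (24, 46), (0, 25), (0, 40), (24, 49), (0, 25), (0, 43), (24, 52), (0, 25), (0, 46), (44, 55), (0, 45), (0, 49), (29, 58), (0, 30), (0, 52), (44, 61), (0, 45), (0, 55),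 (42, 61), (0, 43), (0, 61), (42, 64), (0, 43), (0, 64), (42, 67), (0, 43), (0, 67), (62, 70), (0, 63), (0, 70), (47, 73), (0, 48), (0, 73), (62, 76), (0, 63), (0, 76), (82, 79), (0, 83), (0, 79)]) (es := [(52, 113), (49, 113), (45, 113), (43, 99999), (41, 99999), (39, 99999), (36, 99999), (33, 99999), (30, 99999), (27, 99999), (24, 99999), (21, 99999), (18, 99999), (15, 99999), (12, 99999), (9, 99999), (6, 99999), (3, 99999), (0, 99999)]) (ns := []) (by decide +kernel) (L := 14) (N := [])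
    (by decide +kernel)).1
/-- relators -/
def RB1 : List (List ℕ) := [[6,7,0,2,1,0,3,2,0,13,7,2,1,0,3,2,6,13,6,7,0,2,1,0,3,2,0,13,7,2,1,0,3,2,6,13,4], [0,2,1,0,3,2,6,7,0,13,7,2,1,0,3,2,6,13,0,2,1,0,3,2,6,7,0,13,7,2,1,0,3,2,6,13,4], [7,2,6,7,2,1,3,13,7,2,1,0,3,2,6,13,7,2,6,7,2,1,3,13,7,2,1,0,3,2,6,13,4], [1,3,2,6,7,2,6,13,7,2,1,0,3,2,6,13,1,3,2,6,7,2,6,13,7,2,1,0,3,2,6,13,4], [7,2,3,0,1,2,6,4,13,7,2,1,0,3,2,6,13,7,2,3,0,1,2,6,4,13,7,2,1,0,3,2,6,13,4], [6,2,3,0,1,2,7,13,7,2,1,0,3,2,6,13,6,2,3,0,1,2,7,13,7,2,1,0,3,2,6,13,4], [13,6,2,7,6,2,3,1,7,2,1,0,3,7,6,2,3,1,7,2,1,0,3,2,6,13,4], [13,4,6,2,1,0,3,1,0,3,2,6,4,6,2,1,0,3,1,0,3,2,6,13,4], [13,4,1,3,2,6,7,2,6,13,6,2,7,6,2,3,1,6,2,7,6,2,3,1,13,1,3,2,6,7,2,6,7,2,3,0,1,2,6,4,13,4,6,2,1,0,3,2,7,4,6,2,1,0,3,2,7,13,7,2,3,0,1,2,6,4,6,2,3,0,1,2,7,13,7,2,1,0,3,2,6,7,2,1,0,3,2,6,13,6,2,3,0,1,2,7]]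
theorem rb1 : ∀ r ∈ RB1, ev gL r = 1 :=
  (ltrsL.of_run codeM (prog := [(2, 6), (3, 2), (0, 2), (0, 6), (17, 11), (1, 4), (1, 0), (0, 20), (10, 11), (11, 16), (2, 14), (2, 11), (0, 13), (12, 20), (27, 18), (22, 15), (17, 19), (0, 3), (5, 17), (0, 23), (26, 7), (0, 11), (35, 28), (0, 13), (0, 30), (0, 16), (0, 27), (0, 40), (13, 34), (0, 25), (0, 20), (13, 30), (1, 45), (39, 17), (0, 30), (0, 37), (0, 36), (37, 31), (0, 22), (25, 37), (0, 43), (34, 36), (20, 34), (6, 35), (0, 7), (0, 34), (7, 38), (0, 8), (0, 37), (56, 8), (0, 8), (0, 10), (0, 41), (21, 45), (0, 22), (0, 44), (63, 36), (0, 15), (0, 38), (0, 48), (17, 38), (0, 50), (34, 54), (0, 35), (0, 53), (32, 57), (0, 33), (0, 56), (53, 36), (0, 41), (0, 42), (0, 53), (0, 58), (0, 53), (0, 41), (0, 44), (0, 71), (0, 57), (0, 35), (0,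 71), (0, 58)]) (es := [(35, 99999), (32, 99999), (28, 99999), (25, 99999), (21, 99999), (19, 99999), (16, 99999), (13, 99999), (0, 99999)]) (ns := []) (by decide +kernel) (L := 14) (N := [])
    (by decide +kernel)).1
/-- relators -/
def RB2 : List (List ℕ) := [[10,13,6,2,7,6,2,3,1,6,2,7,6,2,3,1,7,2,1,0,3,7,6,2,3,1,4,6,2,1,0,3,2,7,6,2,7,6,2,3,1,6,2,7,6,2,3,1,13], [9,13,6,2,7,6,2,3,1,6,2,7,6,2,3,1,4,6,2,1,0,3,2,7,6,2,7,6,2,3,1,7,2,1,0,3,7,6,2,3,1,6,2,7,6,2,3,1,13]]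
theorem rb2 : ∀ r ∈ RB2, ev gL r = 1 :=
  (ltrsL.of_run codeM (prog := [(6, 2), (14, 14), (1, 9), (0, 2), (0, 7), (0, 6), (0, 4), (8, 7), (0, 11), (0, 11), (8, 3), (4, 4), (25, 0), (20, 15), (0, 4), (0, 21), (0, 5), (21, 16), (0, 8), (0, 26), (0, 9), (15, 34), (32, 9), (0, 6), (0, 3), (0, 3), (35, 13), (0, 6), (0, 11), (0, 7)]) (es := [(4, 99999), (0, 99999)]) (ns := []) (by decide +kernel) (L := 14) (N := [])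
    (by decide +kernel)).1

end CL.LyU
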